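/-
A Sylow `2`-subgroup of type `C₂ × D₈` forces a subgroup of index two.
-/
import Mathlib
import Cfsg.Agent.Lib.Fusion.Thompson

set_option autoImplicit false
set_option linter.style.haveILetI false

namespace Cfsg.Agent.Lib.LAEven56.TwoDihedral

open DihedralGroup

/-- The model group `C₂ × D₈`. -/
abbrev W := Multiplicative (ZMod 2) × DihedralGroup 4

/-- The direct factor. -/
def c : W := (Multiplicative.ofAdd 1, 1)
/-- The commutator. -/
def z : W := (1, r 2)
/-- The first family of reflections. -/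
def B (j : ZMod 2) : W := (Multiplicative.ofAdd j, sr 0)
/-- The second family of reflections. -/
def A (j : ZMod 2) : W := (Multiplicative.ofAdd j, sr 1)
/-- The rotation of order four. -/
def a : W := (1, r 1)
/-- A reflection. -/
def b : W := (1, sr 0)

/-- The four maximal subgroups avoiding `c`, as maps to the field with two elements. -/
def chiFun (i j : ZMod 2) : W → ZMod 2
  | (e, r k) => Multiplicative.toAdd e + i * (k.val : ZMod 2)
  | (e, sr k) => Multiplicative.toAdd e + j + i * (k.val : ZMod 2)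

set_option maxRecDepth 4000 in
theorem chiFun_add : ∀ (i j : ZMod 2) (x y : W), chiFun i j (x * y) = chiFun i j x + chiFun i j y := by
  decide

/-- The homomorphism with kernel a maximal subgroup avoiding `c`. -/
def chi (i j : ZMod 2) : W →* Multiplicative (ZMod 2) :=
  MonoidHom.mk' (fun x => Multiplicative.ofAdd (chiFun i j x))
    (fun x y => congrArg Multiplicative.ofAdd (chiFun_add i j x y))

set_option maxRecDepth 4000 in
theorem involutions_kernel : ∀ (i j : ZMod 2) (y : W), y * y = 1 → y ≠ 1 → chiFun i j y = 0 →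
    y = z ∨ y = B j ∨ y = a * B j * a⁻¹ ∨ y = A (i + j) ∨ y = b * A (i + j) * b⁻¹ := by
  decide

set_option maxRecDepth 4000 in
theorem involutions : ∀ y : W, y * y = 1 → y ≠ 1 → y = z ∨ y = c ∨ y = c * z ∨
    (∃ j, y = B j ∨ y = a * B j * a⁻¹) ∨ ∃ j, y = A j ∨ y = b * A j * b⁻¹ := by
  decide

theorem central : ∀ w : W, c * w = w * c ∧ z * w = w * z := by decide

set_option maxRecDepth 4000 in
theorem mul_reflection : ∀ j : ZMod 2, c * (a * B j * a⁻¹) ≠ c ∧ z * B j = a * B j * a⁻¹ ∧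
    z * (a * B j * a⁻¹) = B j ∧ z * A j = b * A j * b⁻¹ ∧ z * (b * A j * b⁻¹) = A j := by
  decide

/-- Conjugacy in the ambient group, through `f`. -/
def Rel {G : Type*} [Group G] (f : W →* G) (x y : W) : Prop := IsConj (f x) (f y)

theorem rel_conj {G : Type*} [Group G] (f : W →* G) (w x : W) : Rel f x (w * x * w⁻¹) :=
  isConj_iff.2 ⟨f w, by simp [map_mul, map_inv]⟩

theorem exists_index_two {G : Type*} [Group G] [Finite G] (S : Sylow 2 G)
    (hS : Nonempty (↥(S : Subgroup G) ≃* W)) : ∃ H : Subgroup G, H.index = 2 := by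
  classical
  by_contra hno
  push Not at hno
  obtain ⟨e⟩ := hS
  set f : W →* G := (S : Subgroup G).subtype.comp e.symm.toMonoidHom with hfdef
  have hf : Function.Injective f := Subtype.val_injective.comp e.symm.injective
  have hfS : ∀ w, f w ∈ (S : Subgroup G) := fun w => (e.symm w).2
  have hrange : ∀ g ∈ (S : Subgroup G), ∃ w, f w = g := fun g hg =>
    ⟨e ⟨g, hg⟩, by simp [hfdef]⟩
  have hrel_refl : ∀ x, Rel f x x := fun x => IsConj.refl _
  -- central involutions are not fused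
  set N := Subgroup.normalizer ((S : Subgroup G) : Set G)
  have hN : ∀ x y : W, (∀ v, x * v = v * x) → (∀ v, y * v = v * y) → Rel f x y →
      ∃ m ∈ N, m⁻¹ * f x * m = f y := by
    intro x y hx hy hxy
    obtain ⟨g, hg⟩ := isConj_iff.1 hxy
    have hcen : ∀ w : W, (∀ v, w * v = v * w) → f w ∈ Subgroup.centralizer (S : Set G) := by
      intro w hw
      rw [Subgroup.mem_centralizer_iff]
      intro s hs
      obtain ⟨v, rfl⟩ := hrange s hs
      rw [← map_mul, ← map_mul, hw v]
    obtain ⟨m, hm, hmeq⟩ := S.conj_eq_normalizer_conj_of_mem_centralizer (f x) g⁻¹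
      (hcen x hx) (by rw [inv_inv, hg]; exact hcen _ hy)
    rw [inv_inv, hg] at hmeq
    exact ⟨m, hm, hmeq.symm⟩
  have hcz : ∀ v : W, c * z * v = v * (c * z) := fun v => by
    rw [mul_assoc, (central v).2, ← mul_assoc, (central v).1, mul_assoc]
  have hzN : ∀ n ∈ N, n * f z * n⁻¹ = f z := by
    intro n hn
    have h1 : n * f a * n⁻¹ ∈ (S : Subgroup G) := (Subgroup.mem_normalizer_iff.1 hn _).1 (hfS a)
    obtain ⟨u, hu⟩ := hrange _ h1
    have hz : z = a * a := by decide
    have hsq : ∀ u : W, u * u = 1 ∨ u * u = z := by decide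
    rw [hz, map_mul, show n * (f a * f a) * n⁻¹ = (n * f a * n⁻¹) * (n * f a * n⁻¹) by group,
      ← hu, ← map_mul, ← map_mul]
    rcases hsq u with h2 | h2
    · exfalso
      have h3 := congrArg f h2
      rw [map_mul, hu, map_one, show n * f a * n⁻¹ * (n * f a * n⁻¹) = n * (f a * f a) * n⁻¹ by
        group, conj_eq_one_iff, ← map_mul, ← map_one f] at h3
      exact absurd (hf h3) (by decide)
    · rw [h2, hz]
  have hzfix : ∀ x : W, (∀ v, x * v = v * x) → Rel f x z → x = z := by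
    intro x hx hxy
    obtain ⟨m, hm, hmx⟩ := hN x z hx (fun v => (central v).2) hxy
    have h2 := hzN m hm
    apply hf
    calc f x = m * (m⁻¹ * f x * m) * m⁻¹ := by group
      _ = f z := by rw [hmx, h2]
  have hn1 : ¬ Rel f c (c * z) := by
    intro hrel
    obtain ⟨m, hm, hm1⟩ := hN c (c * z) (fun v => (central v).1) hcz hrel
    have hswap : m⁻¹ * f (c * z) * m = f c := by
      have h2 := hzN m⁻¹ (inv_mem hm)
      rw [inv_inv] at h2
      rw [map_mul, show m⁻¹ * (f c * f z) * m = (m⁻¹ * f c * m) * (m⁻¹ * f z * m) by group, hm1, h2,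
        ← map_mul, show c * z * z = c by decide]
    -- `m` has odd order modulo the Sylow subgroup, which centralises `f c`
    set P : Subgroup N := (S : Subgroup G).subgroupOf N
    haveI : P.Normal := Subgroup.normal_in_normalizer
    have hodd : ¬ 2 ∣ P.index :=
      fun h => S.not_dvd_index (h.trans (Subgroup.relIndex_dvd_index_of_le Subgroup.le_normalizer))
    set k := P.index
    have hpow : m⁻¹ ^ k ∈ (S : Subgroup G) := by
      have h1 : (⟨m⁻¹, inv_mem hm⟩ : N) ^ k ∈ P := Subgroup.pow_index_mem P _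
      simpa [P, Subgroup.mem_subgroupOf] using h1
    obtain ⟨w, hw⟩ := hrange _ hpow
    have hfix : m⁻¹ ^ k * f c * (m⁻¹ ^ k)⁻¹ = f c := by
      rw [← hw, ← map_inv, ← map_mul, ← map_mul, ← (central w).1, mul_inv_cancel_right]
    have htwo : ∀ i : ℕ, m⁻¹ ^ (2 * i + 1) * f c * (m⁻¹ ^ (2 * i + 1))⁻¹ = f (c * z) := by
      intro i
      induction i with
      | zero => simpa using hm1
      | succ i ih =>
        rw [show 2 * (i + 1) + 1 = (2 * i + 1) + 1 + 1 by ring, pow_succ', pow_succ',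
          mul_inv_rev, mul_inv_rev, inv_inv]
        rw [show m⁻¹ * (m⁻¹ * m⁻¹ ^ (2 * i + 1)) * f c * ((m⁻¹ ^ (2 * i + 1))⁻¹ * m * m) =
          m⁻¹ * (m⁻¹ * (m⁻¹ ^ (2 * i + 1) * f c * (m⁻¹ ^ (2 * i + 1))⁻¹) * m) * m by group, ih,
          hswap, hm1]
    obtain ⟨i, hi⟩ := Nat.odd_iff.2 (Nat.two_dvd_ne_zero.1 hodd)
    rw [hi, htwo i] at hfix
    exact absurd (hf hfix) (by decide)
  -- Thompson transfer
  have htr : ∀ (i j : ZMod 2) (x : W), x * x = 1 → x ≠ 1 →
      Rel f x z ∨ Rel f x (B j) ∨ Rel f x (A (i + j)) := by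
    intro i j x hx hx1
    have hsurj : (chi i j).ker.index = 2 := by
      have hc : chi i j c = Multiplicative.ofAdd (1 : ZMod 2) := by revert i j; decide
      rw [Subgroup.index_ker]
      have htop : (chi i j).range = ⊤ := top_le_iff.1 fun y _ => by
        rcases (by decide : ∀ y : Multiplicative (ZMod 2), y = 1 ∨ y = Multiplicative.ofAdd 1) y with
          rfl | rfl
        · exact one_mem _
        · exact ⟨c, hc⟩
      rw [htop, Subgroup.card_top, Nat.card_eq_fintype_card]; rfl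
    set M : Subgroup G := (chi i j).ker.map f
    have hMS : M ≤ (S : Subgroup G) := by rintro _ ⟨w, -, rfl⟩; exact hfS w
    have hfr : f.range = (S : Subgroup G) :=
      le_antisymm (by rintro _ ⟨w, rfl⟩; exact hfS w) fun g hg => hrange g hg
    have hMrel : M.relIndex (S : Subgroup G) = 2 := by
      rw [← hfr, MonoidHom.range_eq_map, Subgroup.relIndex_map_map_of_injective _ _ hf,
        Subgroup.relIndex_top_right, hsurj]
    obtain ⟨g, w, hwk, hw⟩ := Lib.Fusion.Thompson.exists_conj_mem_maximal S M hMS hMrel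
      (fun N => hno N) (f x) (orderOf_eq_prime (by rw [sq, ← map_mul, hx, map_one])
        (fun h => hx1 (hf (h.trans (map_one f).symm))))
    have hrel : Rel f x w := isConj_iff.2 ⟨g, hw.symm⟩
    have hw2 : w * w = 1 := hf (by
      rw [map_mul, hw, map_one, show g * f x * g⁻¹ * (g * f x * g⁻¹) = g * (f x * f x) * g⁻¹ by
        group, ← map_mul, hx, map_one, mul_one, mul_inv_cancel])
    have hw1 : w ≠ 1 := fun h => hx1 (hf (by
      rw [h, map_one] at hw
      rw [map_one]
      exact conj_eq_one_iff.1 hw.symm))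
    have hwk0 : chiFun i j w = 0 := by
      have := MonoidHom.mem_ker.1 hwk
      exact congrArg Multiplicative.toAdd this
    rcases involutions_kernel i j w hw2 hw1 hwk0 with h | h | h | h | h
    · exact Or.inl (h ▸ hrel)
    · exact Or.inr (Or.inl (h ▸ hrel))
    · exact Or.inr (Or.inl ((h ▸ hrel).trans (rel_conj f a (B j)).symm))
    · exact Or.inr (Or.inr (h ▸ hrel))
    · exact Or.inr (Or.inr ((h ▸ hrel).trans (rel_conj f b (A (i + j))).symm))
  have hc0 : c * c = 1 ∧ c ≠ 1 ∧ c ≠ z := by decide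
  have hcz0 : c * z * (c * z) = 1 ∧ c * z ≠ 1 ∧ c * z ≠ z := by decide
  have hu : ∀ (i j : ZMod 2) (u : W), u = c ∨ u = c * z → Rel f u (B j) ∨ Rel f u (A (i + j)) := by
    intro i j u hu
    have hcent : ∀ v, u * v = v * u := by
      rcases hu with rfl | rfl
      · exact fun v => (central v).1
      · exact hcz
    rcases htr i j u (by rcases hu with rfl | rfl; exacts [hc0.1, hcz0.1])
      (by rcases hu with rfl | rfl; exacts [hc0.2.1, hcz0.2.1]) with h | h
    · have := hzfix u hcent h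
      rcases hu with rfl | rfl
      · exact absurd this hc0.2.2
      · exact absurd this hcz0.2.2
    · exact h
  have key : ∀ u v : W, (u = c ∧ v = c * z) ∨ (u = c * z ∧ v = c) → Rel f u (B 0) →
      (∀ j, Rel f u (B j)) ∧ ∀ j, Rel f v (A j) := by
    intro u v huv h0
    have hne : ¬ Rel f u v := by
      rcases huv with ⟨rfl, rfl⟩ | ⟨rfl, rfl⟩
      · exact hn1
      · exact fun h => hn1 h.symm
    have hu' : u = c ∨ u = c * z := by tauto
    have hv' : v = c ∨ v = c * z := by tauto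
    have hA : ∀ j, Rel f v (A j) := fun j => by
      rcases hu j 0 v hv' with h | h
      · exact absurd (h0.trans h.symm) hne
      · rwa [add_zero] at h
    refine ⟨fun j => ?_, hA⟩
    rcases hu 0 j u hu' with h | h
    · exact h
    · exact absurd (h.trans (hA _).symm) hne
  obtain ⟨u, v, huv, hB, hA⟩ : ∃ u v : W, ((u = c ∧ v = c * z) ∨ (u = c * z ∧ v = c)) ∧
      (∀ j, Rel f u (B j)) ∧ ∀ j, Rel f v (A j) := by
    rcases hu 0 0 c (Or.inl rfl) with h | h
    · exact ⟨c, c * z, Or.inl ⟨rfl, rfl⟩, key _ _ (Or.inl ⟨rfl, rfl⟩) h⟩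
    · rcases hu 0 0 (c * z) (Or.inr rfl) with h' | h'
      · exact ⟨c * z, c, Or.inr ⟨rfl, rfl⟩, key _ _ (Or.inr ⟨rfl, rfl⟩) h'⟩
      · exact absurd (h.trans h'.symm) hn1
  have hne : ¬ Rel f u v := by
    rcases huv with ⟨rfl, rfl⟩ | ⟨rfl, rfl⟩
    · exact hn1
    · exact fun h => hn1 h.symm
  have huz : z * v = u := by rcases huv with ⟨rfl, rfl⟩ | ⟨rfl, rfl⟩ <;> decide
  have hvcent : ∀ w, v * w = w * v := by
    rcases huv with ⟨rfl, rfl⟩ | ⟨rfl, rfl⟩
    · exact hcz
    · exact fun w => (central w).1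
  have hucent : ∀ w, u * w = w * u := by
    rcases huv with ⟨rfl, rfl⟩ | ⟨rfl, rfl⟩
    · exact fun w => (central w).1
    · exact hcz
  have huzne : u ≠ z ∧ v ≠ z ∧ v * v = 1 ∧ v ≠ 1 := by
    rcases huv with ⟨rfl, rfl⟩ | ⟨rfl, rfl⟩ <;> decide
  -- the extremal conjugate
  obtain ⟨g₀, hg₀⟩ := isConj_iff.1 (hB 0).symm
  set C : Subgroup G := Subgroup.centralizer {f u}
  have hSC : (S : Subgroup G) ≤ C := by
    intro s hs
    obtain ⟨w, rfl⟩ := hrange s hs
    rw [Subgroup.mem_centralizer_iff]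
    intro y hy
    rw [Set.mem_singleton_iff.1 hy, ← map_mul, ← map_mul, hucent w]
  let D : Subgroup W := Subgroup.centralizer {B 0}
  set X : Subgroup G := (D.map f).map (MulAut.conj g₀).toMonoidHom
  have hX : IsPGroup 2 X := by
    refine IsPGroup.map (IsPGroup.to_le (S.2) ?_) _
    rintro _ ⟨w, -, rfl⟩; exact hfS w
  have hXC : X ≤ C := by
    rintro _ ⟨_, ⟨w, hw, rfl⟩, rfl⟩
    rw [Subgroup.mem_centralizer_iff]
    intro y hy
    rw [Set.mem_singleton_iff.1 hy]
    have hcomm : B 0 * w = w * B 0 := Subgroup.mem_centralizer_iff.1 hw _ rfl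
    show f u * (g₀ * f w * g₀⁻¹) = g₀ * f w * g₀⁻¹ * f u
    rw [← hg₀, show g₀ * f (B 0) * g₀⁻¹ * (g₀ * f w * g₀⁻¹) = g₀ * (f (B 0) * f w) * g₀⁻¹ by group,
      ← map_mul, hcomm, map_mul]
    group
  obtain ⟨Q, hQ⟩ := (hX.comap_subtype (K := C)).exists_le_sylow
  obtain ⟨k, hk⟩ := MulAction.exists_smul_eq C Q (S.subtype hSC)
  set g : G := (k : G) * g₀
  have hgS : ∀ w, B 0 * w = w * B 0 → g * f w * g⁻¹ ∈ (S : Subgroup G) := by
    intro w hw
    have h1 : g₀ * f w * g₀⁻¹ ∈ X := ⟨f w, ⟨w, Subgroup.mem_centralizer_iff.2 (fun y hy => by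
      rw [Set.mem_singleton_iff.1 hy, hw]), rfl⟩, rfl⟩
    have h2 : (⟨g₀ * f w * g₀⁻¹, hXC h1⟩ : C) ∈ (Q : Subgroup C) := hQ h1
    have h3 : k * ⟨g₀ * f w * g₀⁻¹, hXC h1⟩ * k⁻¹ ∈ ((k • Q : Sylow 2 C) : Subgroup C) :=
      Subgroup.smul_mem_pointwise_smul _ (MulAut.conj k) _ h2
    rw [hk] at h3
    simpa [g, Subgroup.mem_subgroupOf, mul_assoc] using h3
  have hgu : g * f (B 0) * g⁻¹ = f u := by
    have hk2 := Subgroup.mem_centralizer_iff.1 k.2 (f u) rfl
    calc g * f (B 0) * g⁻¹ = (k : G) * (g₀ * f (B 0) * g₀⁻¹) * (k : G)⁻¹ := by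
          simp only [g]; group
      _ = f u := by rw [hg₀, ← hk2]; group
  obtain ⟨z', hz'⟩ := hrange _ (hgS z ((central _).2).symm)
  obtain ⟨v', hv'⟩ := hrange _ (hgS v (hvcent _).symm)
  have hzrel : Rel f z z' := isConj_iff.2 ⟨g, hz'.symm⟩
  have hvrel : Rel f v v' := isConj_iff.2 ⟨g, hv'.symm⟩
  have hinv : ∀ (x x' : W), f x' = g * f x * g⁻¹ → x * x = 1 → x ≠ 1 → x' * x' = 1 ∧ x' ≠ 1 := by
    intro x x' h hx hx1
    refine ⟨hf ?_, fun h1 => hx1 (hf ?_)⟩
    · rw [map_mul, h, map_one, show g * f x * g⁻¹ * (g * f x * g⁻¹) = g * (f x * f x) * g⁻¹ by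
        group, ← map_mul, hx, map_one, mul_one, mul_inv_cancel]
    · rw [h1, map_one] at h
      rw [map_one]
      exact conj_eq_one_iff.1 h.symm
  have hBrel : ∀ j, Rel f u (B j) ∧ Rel f u (a * B j * a⁻¹) := fun j =>
    ⟨hB j, (hB j).trans (rel_conj f a _)⟩
  have hArel : ∀ j, Rel f v (A j) ∧ Rel f v (b * A j * b⁻¹) := fun j =>
    ⟨hA j, (hA j).trans (rel_conj f b _)⟩
  -- `z` is alone in its class
  have hz'z : z' = z := by
    obtain ⟨h1, h2⟩ := hinv z z' hz' (by decide) (by decide)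
    have hbad : ∀ w, (Rel f u w ∨ Rel f v w) → z' ≠ w := by
      rintro w (h | h) rfl
      · exact huzne.1 (hzfix u hucent (h.trans hzrel.symm))
      · exact huzne.2.1 (hzfix v hvcent (h.trans hzrel.symm))
    rcases involutions z' h1 h2 with h | h | h | ⟨j, h | h⟩ | ⟨j, h | h⟩
    · exact h
    · rcases huv with ⟨rfl, rfl⟩ | ⟨rfl, rfl⟩
      · exact absurd h (hbad _ (Or.inl (hrel_refl _)))
      · exact absurd h (hbad _ (Or.inr (hrel_refl _)))
    · rcases huv with ⟨rfl, rfl⟩ | ⟨rfl, rfl⟩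
      · exact absurd h (hbad _ (Or.inr (hrel_refl _)))
      · exact absurd h (hbad _ (Or.inl (hrel_refl _)))
    · exact absurd h (hbad _ (Or.inl (hBrel j).1))
    · exact absurd h (hbad _ (Or.inl (hBrel j).2))
    · exact absurd h (hbad _ (Or.inr (hArel j).1))
    · exact absurd h (hbad _ (Or.inr (hArel j).2))
  rw [hz'z] at hz'
  have hgu' : g * f u * g⁻¹ = f (z * v') := by
    rw [← huz, map_mul, map_mul, show g * (f z * f v) * g⁻¹ = g * f z * g⁻¹ * (g * f v * g⁻¹) by
      group, ← hz', ← hv']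
  have huzv : Rel f u (z * v') := isConj_iff.2 ⟨g, hgu'⟩
  have hv'v : v' = v := by
    obtain ⟨h1, h2⟩ := hinv v v' hv' huzne.2.2.1 huzne.2.2.2
    rcases involutions v' h1 h2 with h | h | h | ⟨j, h | h⟩ | ⟨j, h | h⟩
    · rw [h] at hvrel; exact absurd (hzfix v hvcent hvrel) huzne.2.1
    · rcases huv with ⟨rfl, rfl⟩ | ⟨rfl, rfl⟩
      · exact absurd (h ▸ hvrel).symm hne
      · exact h
    · rcases huv with ⟨rfl, rfl⟩ | ⟨rfl, rfl⟩
      · exact h
      · exact absurd (h ▸ hvrel).symm hne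
    · exact absurd ((hBrel j).1.trans (h ▸ hvrel).symm) hne
    · exact absurd ((hBrel j).2.trans (h ▸ hvrel).symm) hne
    · rw [h, (mul_reflection j).2.2.2.1] at huzv
      exact absurd (huzv.trans (hArel j).2.symm) hne
    · rw [h, (mul_reflection j).2.2.2.2] at huzv
      exact absurd (huzv.trans (hArel j).1.symm) hne
  rw [hv'v, huz] at hgu'
  have h3 : f u = f (B 0) := mul_left_cancel (mul_right_cancel (hgu'.trans hgu.symm))
  rcases huv with ⟨rfl, rfl⟩ | ⟨rfl, rfl⟩ <;> exact absurd (hf h3) (by decide)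

end Cfsg.Agent.Lib.LAEven56.TwoDihedral
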